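import Cfsg.Agent.H586.NX.Tools
import Cfsg.Agent.H20.NX.BCount
import Cfsg.Agent.H921.NX.Tw

/-!
# S4816, layer (BP), `p = 3`: counting, and the fixed spaces of the elements of order `3` (helper696)

* `count_three` : the subgroup form of the counting for `LB 3 3 2 n`;
* `fix_sq_le` : `|C_W(x)| ^ 2 ≤ |W|` for `x` of order `3`;
* `ineq_sq` : `Q ^ (2 ^ (n - 1)) ≤ 2 ^ (2 k) |Y : N(⟨y⟩)|`.
-/

set_option autoImplicit false
set_option linter.unusedSectionVars false

open scoped commutatorElement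

namespace Cfsg.Agent.H696.RIM

open Subgroup
open Cfsg.Agent.H586.NX Cfsg.Agent.H20.GWX Cfsg.Agent.H921.NX

section form

variable {p q n : ℕ} {Y U : Type*} [Group Y] [Finite Y] [AddCommGroup U] [Finite U] [DistribMulAction Y U]
    {X : Subgroup Y} {B : U → U → ZMod 2}

/-- an element of order `3` : some `m` in `[U, y]` is not orthogonal to `y m` -/
theorem exists_m (S : SX (U := U) p q 2 n X B) {y : Y} (hy3 : y * y * y = 1) (hy1 : y ≠ 1) :
    ∃ u : U, B (y⁻¹ • u - u) (y • (y⁻¹ • u - u)) ≠ 0 := by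
  by_contra hcon
  push Not at hcon
  apply hy1
  have h2 : ∀ v : U, v + v = 0 := fun v => by have := S.exp v; rwa [two_smul] at this
  have hneg : ∀ v : U, -v = v := fun v => neg_eq_of_add_eq_zero_left (h2 v)
  have hz : ∀ c : ZMod 2, c + c = 0 := by decide
  have hzn : ∀ c : ZMod 2, -c = c := by decide
  have hsw : ∀ u v : U, B u v = B v u := fun u v => by rw [B_swap S, hzn]
  have hyi : y⁻¹ = y * y := by
    rw [inv_eq_iff_mul_eq_one, ← mul_assoc]
    exact hy3
  have hyy : ∀ u : U, y • y • u = y⁻¹ • u := fun u => by rw [smul_smul, hyi]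
  -- polarization
  have hpol : ∀ u v : U, B (y⁻¹ • u - u) (y⁻¹ • v - v) = 0 := by
    intro u v
    have h3 := hcon (u + v)
    have e1 : y⁻¹ • (u + v) - (u + v) = (y⁻¹ • u - u) + (y⁻¹ • v - v) := by rw [smul_add]; abel
    set m := y⁻¹ • u - u with hm
    set m' := y⁻¹ • v - v with hm'
    have hu : B m (y • m) = 0 := hcon u
    have hv : B m' (y • m') = 0 := hcon v
    rw [e1, smul_add, S.addl, S.addr, S.addr, hu, hv, zero_add, add_zero] at h3
    -- B m (y m') + B m' (y m) = 0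
    have e2 : B m' (y • m) = B m (y⁻¹ • m') := by
      rw [hsw, ← S.inv y⁻¹ (y • m) m', inv_smul_smul]
    rw [e2, ← S.addr] at h3
    have e3 : y • m' + y⁻¹ • m' = m' := by
      have e4 : y • m' + y⁻¹ • m' + m' = 0 := by
        have e5 : y⁻¹ • (y⁻¹ • v) = y • v := by
          rw [smul_smul, hyi]
          congr 1
          calc y * y * (y * y) = (y * y * y) * y := by group
            _ = y := by rw [hy3, one_mul]
        rw [hm', smul_sub, smul_sub, smul_inv_smul, e5]
        abel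
      have := eq_neg_of_add_eq_zero_left e4
      rw [this, hneg]
    rwa [e3] at h3
  -- fixed vectors are orthogonal to `[U, y]`
  have hall : ∀ u w : U, B (y⁻¹ • u - u) w = 0 := by
    intro u w
    have e1 : w = (w + y • w + y⁻¹ • w) + ((y⁻¹ • w - w) + (y⁻¹ • (y⁻¹ • w) - (y⁻¹ • w)) + (y⁻¹ • w - w)) := by
      have e2 : y⁻¹ • (y⁻¹ • w) = y • w := by
        rw [smul_smul, hyi]
        congr 1
        calc y * y * (y * y) = (y * y * y) * y := by group
          _ = y := by rw [hy3, one_mul]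
      rw [e2]
      have h5 := h2 w
      have h6 := h2 (y • w)
      have h7 := h2 (y⁻¹ • w)
      have e3 : (w + y • w + y⁻¹ • w) + ((y⁻¹ • w - w) + (y • w - (y⁻¹ • w)) + (y⁻¹ • w - w)) =
          - w + (y • w + y • w) + (y⁻¹ • w + y⁻¹ • w) := by abel
      rw [e3, h6, h7, hneg, add_zero, add_zero]
    have e4 : y • (w + y • w + y⁻¹ • w) = w + y • w + y⁻¹ • w := by
      rw [smul_add, smul_add, hyy, smul_inv_smul]
      abel
    obtain ⟨w0, hw0⟩ : ∃ w0, w0 = w + y • w + y⁻¹ • w := ⟨_, rfl⟩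
    rw [← hw0] at e1 e4
    rw [e1, S.addr, S.addr, S.addr, hpol, hpol, add_zero, add_zero, add_zero]
    have e5 : B (y⁻¹ • u - u) w0 = B (y⁻¹ • u) w0 + B u w0 := by
      rw [sub_eq_add_neg, hneg, S.addl]
    rw [e5, ← S.inv y (y⁻¹ • u) w0, smul_inv_smul, e4]
    exact hz _
  apply S.faith
  intro u
  have h3 := S.nd _ (hall u)
  have h4 : y⁻¹ • u = u := sub_eq_zero.1 h3
  rw [← h4, smul_inv_smul]
  exact h4.symm

end form

section count

variable {q n : ℕ} {G W Y U : Type*} [Group G] [Finite G] [AddCommGroup W] [Finite W]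
    [DistribMulAction G W] [Group Y] [Finite Y] [AddCommGroup U] [Finite U] [DistribMulAction Y U]
    {L Z : Subgroup G} {π : G →* Y} {a : L →* Multiplicative U} {X : Subgroup Y} {B : U → U → ZMod 2}

/-- subgroup form of the counting -/
theorem count_three (_S : SX (U := U) 3 q 2 n X B) (h : LB (W := W) 3 3 2 n L Z π a B) {x : G}
    (hx : orderOf x = 3) {k : ℕ} (hk : k ≤ n) (hfix : Nat.card {u : U // π x • u = u} = 2 ^ (2 * (n - k))) :
    Nat.card W ≤ 2 ^ (2 * k) *
      (normalizer ((zpowers (π x) : Subgroup Y) : Set Y)).index * Nat.card {w : W // x • w = w} :=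
  Cfsg.Agent.H20.NX.LB_count h hx hk hfix

/-- the fixed space of an element of order `3` is small -/
theorem fix_sq_le (S : SX (U := U) 3 q 2 n X B) (h : LB (W := W) 3 3 2 n L Z π a B) {x : G} (hx : orderOf x = 3) :
    Nat.card {w : W // x • w = w} ^ 2 ≤ Nat.card W := by
  have := h.lx.nt
  have := h.lx.nL
  obtain ⟨F, i1, i2, i3, D⟩ := Cfsg.Agent.H684.GW.exists_FD (W := W) h.lx.nL h.lx.irr
  have hx3 : x * x * x = 1 := by
    have h3 := pow_orderOf_eq_one x
    rw [hx] at h3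
    rw [← h3, pow_succ, pow_two]
  obtain ⟨u, hu⟩ := exists_m S (y := π x) (by rw [← map_mul, ← map_mul, hx3, map_one])
    (Cfsg.Agent.H20.NX.LB_ne_one h hx)
  obtain ⟨l, hl⟩ : ∃ l : L, Multiplicative.toAdd (a l) = u := by
    obtain ⟨l, hl⟩ := h.lx.surj (Multiplicative.ofAdd u)
    exact ⟨l, by rw [hl]; rfl⟩
  -- the two elements
  have hm : x⁻¹ * l * x ∈ L := by
    have := h.lx.nL.conj_mem l l.2 x⁻¹
    rwa [inv_inv] at this
  let m : L := ⟨x⁻¹ * l * x, hm⟩ * l⁻¹
  have hm' : x * m * x⁻¹ ∈ L := h.lx.nL.conj_mem m m.2 x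
  let m' : L := ⟨x * m * x⁻¹, hm'⟩
  have ham : Multiplicative.toAdd (a m) = (π x)⁻¹ • u - u := by
    have h1 : Multiplicative.toAdd (a (⟨x⁻¹ * l * x⁻¹⁻¹, by rw [inv_inv]; exact hm⟩ : L)) =
        π x⁻¹ • Multiplicative.toAdd (a ⟨(l : G), l.2⟩) := h.lx.equiv x⁻¹ l l.2 _
    have h2 : (⟨x⁻¹ * l * x⁻¹⁻¹, by rw [inv_inv]; exact hm⟩ : L) = ⟨x⁻¹ * l * x, hm⟩ :=
      Subtype.ext (congrArg (fun z => x⁻¹ * l * z) (inv_inv x))
    rw [h2] at h1
    rw [map_mul, toAdd_mul, h1, map_inv a l, toAdd_inv, map_inv π x, ← sub_eq_add_neg]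
    change (π x)⁻¹ • Multiplicative.toAdd (a l) - Multiplicative.toAdd (a l) = _
    rw [hl]
  have ham' : Multiplicative.toAdd (a m') = π x • ((π x)⁻¹ • u - u) := by
    have h1 := h.lx.equiv x m m.2 hm'
    rw [← ham]
    exact h1
  have hB : B (Multiplicative.toAdd (a m)) (Multiplicative.toAdd (a m')) ≠ 0 := by
    rw [ham, ham']
    exact hu
  obtain ⟨hanti, h2⟩ := anti h D hB
  -- the intersection
  have hint : ∀ v : W, x • v = v → (l : G) • x • (l : G)⁻¹ • v = v → v = 0 := by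
    intro v h3 h4
    have e0 : x⁻¹ • v = v := by rw [inv_smul_eq_iff, h3]
    have e1 : (m : G) • v = v := by
      change (x⁻¹ * l * x * (l : G)⁻¹) • v = v
      rw [mul_smul, mul_smul, mul_smul, h4, e0]
    have e2 : (m' : G) • v = v := by
      change (x * m * x⁻¹) • v = v
      rw [mul_smul, mul_smul, e0, e1, h3]
    have h5 := hanti v
    rw [e2, e1] at h5
    have h6 : (2 : F) • v = 0 := by
      rw [e2] at h5
      rw [two_smul]
      nth_rewrite 1 [h5]
      rw [neg_add_cancel]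
    exact (smul_eq_zero.1 h6).resolve_left h2
  -- the map
  let f : {w : W // x • w = w} × {w : W // x • w = w} → W := fun w => w.1.1 + (l : G) • w.2.1
  have hf : Function.Injective f := by
    rintro ⟨v1, w1⟩ ⟨v2, w2⟩ h3
    have h3' : v1.1 + (l : G) • w1.1 = v2.1 + (l : G) • w2.1 := h3
    have h4 : v1.1 - v2.1 = (l : G) • (w2.1 - w1.1) := by
      rw [smul_sub, sub_eq_sub_iff_add_eq_add, h3', add_comm]
    have h5 : v1.1 - v2.1 = 0 := by
      apply hint
      · rw [smul_sub, v1.2, v2.2]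
      · rw [h4, inv_smul_smul, smul_sub x, w1.2, w2.2]
    have h6 : w2.1 - w1.1 = 0 := by
      rw [h5] at h4
      exact (smul_eq_zero_iff_eq _).1 h4.symm
    exact Prod.ext (Subtype.ext (sub_eq_zero.1 h5)) (Subtype.ext (sub_eq_zero.1 h6).symm)
  have := Nat.card_le_card_of_injective f hf
  rwa [Nat.card_prod, ← pow_two] at this

theorem card_fix_conj (t y : Y) : Nat.card {u : U // (t * y * t⁻¹) • u = u} = Nat.card {u : U // y • u = u} := by
  refine Nat.card_congr ⟨fun u => ⟨t⁻¹ • u.1, ?_⟩, fun u => ⟨t • u.1, ?_⟩, fun u => ?_, fun u => ?_⟩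
  · rw [eq_inv_smul_iff, smul_smul, smul_smul]
    exact u.2
  · rw [mul_smul, mul_smul, inv_smul_smul, u.2]
  · apply Subtype.ext
    exact smul_inv_smul t u.1
  · apply Subtype.ext
    exact inv_smul_smul t u.1

/-- lifting of `3`-subgroups -/
theorem lift_three (h : LB (W := W) 3 3 2 n L Z π a B) {A : Subgroup Y} (hA : IsPGroup 3 A) :
    ∃ (t : Y) (σ : A →* G), (∀ b : A, π (σ b) = t * b * t⁻¹) ∧ Function.Injective σ := by
  have hF : Fact (Nat.Prime 3) := ⟨Nat.prime_three⟩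
  obtain ⟨t, σ, hσ⟩ := exists_lift π h.lx.pker h.ip hA
  refine ⟨t, σ, hσ, ?_⟩
  rw [injective_iff_map_eq_one]
  intro b hb
  have h1 := hσ b
  rw [hb, map_one] at h1
  apply Subtype.ext
  have h4 : t * (b : Y) = t := by
    have := congrArg (· * t) h1
    simpa using this.symm
  simpa using h4

theorem exists_x (h : LB (W := W) 3 3 2 n L Z π a B) {y : Y} (hy : orderOf y = 3) :
    ∃ (x : G) (t : Y), orderOf x = 3 ∧ π x = t * y * t⁻¹ := by
  have hP : IsPGroup 3 (zpowers y) := IsPGroup.of_card (n := 1) (by rw [Nat.card_zpowers, hy, pow_one])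
  obtain ⟨t, σ, hσ, hinj⟩ := lift_three h hP
  refine ⟨σ ⟨y, mem_zpowers y⟩, t, ?_, hσ _⟩
  rw [orderOf_injective σ hinj, Subgroup.orderOf_mk, hy]

theorem index_normalizer_conj (t y : Y) :
    (normalizer ((zpowers (t * y * t⁻¹) : Subgroup Y) : Set Y)).index =
      (normalizer ((zpowers y : Subgroup Y) : Set Y)).index := by
  have h1 : normalizer ((zpowers (t * y * t⁻¹) : Subgroup Y) : Set Y) =
      (normalizer ((zpowers y : Subgroup Y) : Set Y)).map (MulAut.conj t).toMonoidHom := by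
    ext g
    rw [Subgroup.mem_map_equiv, mem_normalizer_iff, mem_normalizer_iff]
    have key : ∀ z : Y, t * z * t⁻¹ ∈ zpowers (t * y * t⁻¹) ↔ z ∈ zpowers y := by
      intro z
      constructor
      · rintro ⟨k, hk⟩
        refine ⟨k, ?_⟩
        have hk' : (t * y * t⁻¹) ^ k = t * z * t⁻¹ := hk
        rw [conj_zpow] at hk'
        exact mul_left_cancel (mul_right_cancel hk')
      · rintro ⟨k, rfl⟩
        exact ⟨k, conj_zpow⟩
    have hs : (MulAut.conj t).symm g = t⁻¹ * g * t := by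
      rw [MulAut.conj_symm_apply]
    rw [hs]
    constructor
    · intro h2 z
      have h3 := h2 (t * z * t⁻¹)
      rw [key] at h3
      rw [h3, ← key]
      have e : g * (t * z * t⁻¹) * g⁻¹ = t * (t⁻¹ * g * t * z * (t⁻¹ * g * t)⁻¹) * t⁻¹ := by group
      rw [e]
    · intro h2 z
      have h3 := h2 (t⁻¹ * z * t)
      rw [← key, ← key] at h3
      have e1 : t * (t⁻¹ * z * t) * t⁻¹ = z := by group
      have e2 : t * (t⁻¹ * g * t * (t⁻¹ * z * t) * (t⁻¹ * g * t)⁻¹) * t⁻¹ = g * z * g⁻¹ := by group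
      rwa [e1, e2] at h3
  rw [h1]
  exact Subgroup.index_map_equiv _ (MulAut.conj t)

/-- the consequence for the number of conjugates -/
theorem ineq_sq (S : SX (U := U) 3 q 2 n X B) (h : LB (W := W) 3 3 2 n L Z π a B) {Q : ℕ}
    (hQ : Nat.card W = Q ^ (2 ^ n)) (hn : 1 ≤ n) {y : Y} (hy : orderOf y = 3) {k : ℕ} (hk : k ≤ n)
    (hfix : Nat.card {u : U // y • u = u} = 2 ^ (2 * (n - k))) :
    Q ^ (2 ^ (n - 1)) ≤ 2 ^ (2 * k) * (normalizer ((zpowers y : Subgroup Y) : Set Y)).index := by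
  obtain ⟨x, t, hx, hpx⟩ := exists_x h hy
  have hfx : Nat.card {u : U // π x • u = u} = 2 ^ (2 * (n - k)) := by
    rw [hpx, card_fix_conj, hfix]
  have h1 := count_three S h hx hk hfx
  rw [hpx, index_normalizer_conj] at h1
  have h2 := fix_sq_le S h hx
  have hWQ : Nat.card W = (Q ^ (2 ^ (n - 1))) ^ 2 := by
    rw [hQ, ← pow_mul, ← pow_succ]
    congr 2
    omega
  rw [hWQ] at h1 h2
  have h3 : Nat.card {w : W // x • w = w} ≤ Q ^ (2 ^ (n - 1)) := by
    exact (Nat.pow_le_pow_iff_left (by norm_num)).1 h2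
  have hpos : 0 < Q ^ (2 ^ (n - 1)) := by
    have : 0 < Nat.card W := by
      have := h.lx.nt
      exact Nat.card_pos
    rw [hWQ] at this
    exact Nat.pos_of_ne_zero (fun h0 => by rw [h0] at this; simp at this)
  refine Nat.le_of_mul_le_mul_right ?_ hpos
  rw [← pow_two]
  exact h1.trans (Nat.mul_le_mul_left _ h3)

end count

end Cfsg.Agent.H696.RIM
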