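import Cfsg.Agent.H696.RIM.Min

/-!
# S4816: minimal counterexamples may be taken without proper normal supplements of `Z` (helper696)
-/

set_option autoImplicit false
set_option linter.style.haveILetI false
set_option linter.unusedSectionVars false
open Cfsg

namespace Cfsg.Agent.H696.RIM

open Cfsg.Agent.Characters.Core Cfsg.Agent.Characters.Clifford Cfsg.Agent.H672
open Cfsg.Agent.H672.RM (over_lin_iff)
open Cfsg.Agent.H586.GW
open Cfsg.Agent.H229.RIM (Bad MinX NoMinX)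
open scoped commutatorElement

universe u

section
variable {p : ℕ} [hp : Fact p.Prime] {G : Type u} [Group G] [Finite G] {Z L : Subgroup G}
  {l : Z →* ℂˣ}

/-- the restriction of a character of `Z` to `Z ∩ L` -/
def resL (L : Subgroup G) (l : Z →* ℂˣ) : Z.subgroupOf L →* ℂˣ :=
  l.comp ((L.subtype.comp (Z.subgroupOf L).subtype).codRestrict Z (fun x => x.2))

theorem resL_apply (l : Z →* ℂˣ) (x : G) (hx : x ∈ L) (hxZ : x ∈ Z)
    (hx' : (⟨x, hx⟩ : L) ∈ Z.subgroupOf L) : resL L l ⟨⟨x, hx⟩, hx'⟩ = l ⟨x, hxZ⟩ := rfl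

theorem exists_prod (hs : L ⊔ Z = ⊤) [L.Normal] (g : G) : ∃ a ∈ L, ∃ z ∈ Z, g = a * z := by
  have h1 : g ∈ L ⊔ Z := by rw [hs]; exact Subgroup.mem_top g
  obtain ⟨a, ha, z, hz, h2⟩ := Subgroup.mem_sup_of_normal_left.1 h1
  exact ⟨a, ha, z, hz, h2.symm⟩

theorem bad_resL (hZ : Z ≤ Subgroup.center G) [hL : L.Normal] (hs : L ⊔ Z = ⊤) (h : Bad p Z l) :
    Bad p (Z.subgroupOf L) (resL L l) := by
  classical
  intro χ hχ hov
  have hc : ∀ z ∈ Z, ∀ g : G, g * z = z * g := fun z hz g => Subgroup.mem_center_iff.1 (hZ hz) g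
  let m : L × Z →* G :=
    { toFun := fun x => (x.1 : G) * (x.2 : G)
      map_one' := by simp
      map_mul' := by
        rintro ⟨a, n⟩ ⟨b, k⟩
        change ((a : G) * (b : G)) * ((n : G) * (k : G)) = ((a : G) * (n : G)) * ((b : G) * (k : G))
        rw [mul_assoc, ← mul_assoc (b : G), hc n n.2 (b : G), mul_assoc (a : G), mul_assoc (n : G)] }
  have hmv : ∀ x, m x = (x.1 : G) * (x.2 : G) := fun _ => rfl
  have hm : Function.Surjective m := by
    intro g
    obtain ⟨a, ha, z, hz, rfl⟩ := exists_prod hs g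
    exact ⟨(⟨a, ha⟩, ⟨z, hz⟩), rfl⟩
  let ψ : L × Z → ℂ := fun x => ((l.comp (MonoidHom.snd L Z)) x : ℂ) * (χ ∘ (MonoidHom.fst L Z)) x
  have hψ : IsIrrCharacter (L × Z) ψ :=
    isIrr_mul_lf _ (isIrr_comp (MonoidHom.fst L Z) Prod.fst_surjective hχ)
  have hψv : ∀ x, ψ x = (l x.2 : ℂ) * χ x.1 := fun _ => rfl
  have hχ1 : χ 1 ≠ 0 := isIrr_apply_one_ne_zero hχ
  have hmul : ∀ (g : L) (n : G) (hn : n ∈ Z) (hnL : n ∈ L),
      χ (g * ⟨n, hnL⟩) = χ g * l ⟨n, hn⟩ := by
    intro g n hn hnL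
    have hc' : (⟨n, hnL⟩ : L) ∈ Subgroup.center L := by
      rw [Subgroup.mem_center_iff]
      intro y
      exact Subtype.ext (hc n hn _)
    letI := Fintype.ofFinite L
    obtain ⟨w, -, hw⟩ := Cfsg.Agent.CharDeep.DegreeBound.exists_omega hχ hc'
    have h1 := hw 1
    have h0 := hov ⟨⟨n, hnL⟩, hn⟩
    rw [one_mul, h0] at h1
    have h2 : w = (resL L l ⟨⟨n, hnL⟩, hn⟩ : ℂˣ) := by
      rw [mul_comm] at h1
      exact (mul_right_cancel₀ hχ1 h1).symm
    rw [hw, h2, resL_apply l n hnL hn hn, mul_comm]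
  obtain ⟨χ', hχ'⟩ := Cfsg.Agent.H595.Central.descend m hm ⟨ψ, hψ⟩ (by
    rintro ⟨a, n⟩ ⟨b, k⟩ hbk
    change ψ ((a, n) * (b, k)) = ψ (a, n)
    have h1 : (b : G) * (k : G) = 1 := hbk
    obtain ⟨b, hbL⟩ := b
    obtain ⟨k, hk⟩ := k
    obtain rfl : b = k⁻¹ := eq_inv_of_mul_eq_one_left h1
    rw [Prod.mk_mul_mk, hψv, hψv, hmul a _ (Z.inv_mem hk), map_mul]
    have h2 : (l ⟨k⁻¹, Z.inv_mem hk⟩ : ℂˣ) = (l ⟨k, hk⟩)⁻¹ := by
      rw [← map_inv]; rfl
    rw [h2, Units.val_mul, Units.val_inv_eq_inv_val]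
    have h3 : ((l ⟨k, hk⟩ : ℂˣ) : ℂ) ≠ 0 := Units.ne_zero _
    field_simp)
  change ∀ x, (χ' : G → ℂ) (m x) = ψ x at hχ'
  have h1 : (χ' : G → ℂ) 1 = χ 1 := by
    rw [← map_one m, hχ', hψv]
    change (l 1 : ℂ) * χ 1 = χ 1
    rw [map_one, Units.val_one, one_mul]
  have h2 := h (χ' : G → ℂ) χ'.2 (by
    intro z
    have h3 : (z : G) = m (1, z) := by
      rw [hmv]
      change (z : G) = 1 * z
      rw [one_mul]
    rw [h3, hχ', hψv, h1, mul_comm])
  have h3 : charDegree χ = charDegree (χ' : G → ℂ) := by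
    rw [Blocks.Basic.charDegree_def, Blocks.Basic.charDegree_def, h1]
  rw [h3]
  exact h2

theorem map_normal (hZ : Z ≤ Subgroup.center G) [L.Normal] (hs : L ⊔ Z = ⊤) (M : Subgroup L)
    (hM : M.Normal) : (M.map L.subtype).Normal := by
  constructor
  rintro _ ⟨x, hx, rfl⟩ g
  obtain ⟨a, ha, n, hn, rfl⟩ := exists_prod hs g
  refine ⟨⟨a, ha⟩ * x * ⟨a, ha⟩⁻¹, hM.conj_mem x hx _, ?_⟩
  change a * (x : G) * a⁻¹ = a * n * (x : G) * (a * n)⁻¹
  have h1 : (x : G) * n = n * (x : G) := Subgroup.mem_center_iff.1 (hZ hn) _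
  rw [mul_inv_rev]
  calc a * (x : G) * a⁻¹ = a * ((x : G) * n) * n⁻¹ * a⁻¹ := by group
    _ = a * (n * (x : G)) * n⁻¹ * a⁻¹ := by rw [h1]
    _ = _ := by simp only [mul_assoc]

theorem mem_of_sup (hZ : Z ≤ Subgroup.center G) {M : Subgroup L} (hZM : Z.subgroupOf L ≤ M)
    {x : L} (hx : (x : G) ∈ M.map L.subtype ⊔ Z) : x ∈ M := by
  haveI := center_normal Z hZ
  obtain ⟨_, ⟨y, hy, rfl⟩, z, hz, h2⟩ := Subgroup.mem_sup_of_normal_right.1 hx
  have h3 : z = ((y⁻¹ * x : L) : G) := by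
    change z = (y : G)⁻¹ * (x : G)
    rw [← h2]
    change z = (y : G)⁻¹ * ((y : G) * z)
    rw [inv_mul_cancel_left]
  have h4 : y⁻¹ * x ∈ M := hZM (by
    rw [Subgroup.mem_subgroupOf, ← h3]
    exact hz)
  have h5 := M.mul_mem hy h4
  rwa [mul_inv_cancel_left] at h5

theorem index_not_dvd (hpZ : ¬ p ∣ Nat.card Z) (hZ : Z ≤ Subgroup.center G) [L.Normal]
    (hs : L ⊔ Z = ⊤) : ¬ p ∣ L.index := by
  intro hd
  apply hpZ
  have h1 : L.relIndex (L ⊔ Z) = L.index := by rw [hs, Subgroup.relIndex_top_right]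
  rw [← h1, sup_comm, Subgroup.relIndex_sup_right] at hd
  exact hd.trans (Subgroup.relIndex_dvd_card L Z)

theorem pgroup_le (h : ¬ p ∣ L.index) [hL : L.Normal] {S : Subgroup G} (hS : IsPGroup p S) :
    S ≤ L := by
  intro s hs
  obtain ⟨k, hk⟩ := hS ⟨s, hs⟩
  have hk' : s ^ p ^ k = 1 := congrArg Subtype.val hk
  rw [← QuotientGroup.eq_one_iff]
  have h1 : orderOf (s : G ⧸ L) ∣ p ^ k := by
    apply orderOf_dvd_of_pow_eq_one
    rw [← QuotientGroup.mk_pow, hk']
    rfl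
  have h2 : orderOf (s : G ⧸ L) ∣ L.index := orderOf_dvd_natCard _
  have h3 : Nat.Coprime (p ^ k) L.index :=
    Nat.Coprime.pow_left k ((Nat.Prime.coprime_iff_not_dvd hp.out).2 h)
  exact orderOf_eq_one_iff.1 (Nat.eq_one_of_dvd_coprimes h3 h1 h2)

/-- A normal supplement of `Z` gives a smaller minimal counterexample. -/
theorem minX_resL (C : MinX p Z l) (hL : L.Normal) (hs : L ⊔ Z = ⊤) :
    MinX p (Z.subgroupOf L) (resL L l) := by
  classical
  haveI := hL
  haveI := center_normal Z C.cen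
  have hidx := index_not_dvd C.pZ C.cen hs
  refine ⟨C.odd, ?_, ?_, ?_, bad_resL C.cen hs C.bad, ?_, ?_, ?_, ?_⟩
  · intro z hz
    rw [Subgroup.mem_center_iff]
    intro g
    exact Subtype.ext (Subgroup.mem_center_iff.1 (C.cen hz) (g : G))
  · refine C.inj.comp ?_
    intro x y hxy
    have h1 := congrArg (fun z : Z => (z : G)) hxy
    exact Subtype.ext (Subtype.ext h1)
  · intro hd
    apply C.pZ
    refine hd.trans (Subgroup.card_dvd_of_injective
      ((L.subtype.comp (Z.subgroupOf L).subtype).codRestrict Z (fun x => x.2)) ?_)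
    intro x y hxy
    have h1 := congrArg (fun z : Z => (z : G)) hxy
    exact Subtype.ext (Subtype.ext h1)
  · intro hps
    apply C.ns
    have hcop : (Nat.card Z).Coprime p := ((Nat.Prime.coprime_iff_not_dvd hp.out).2 C.pZ).symm
    refine Cfsg.Agent.Lib.PSolvable.IsPSolvable_of_quotient p Z (Or.inr hcop) ?_
    refine Cfsg.Agent.Lib.PSolvable.IsPSolvable_of_surjective p hps
      ((QuotientGroup.mk' Z).comp L.subtype) ?_
    intro y
    obtain ⟨g, rfl⟩ := QuotientGroup.mk'_surjective Z y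
    obtain ⟨a, ha, z, hz, rfl⟩ := exists_prod hs g
    refine ⟨⟨a, ha⟩, ?_⟩
    rw [map_mul]
    have : QuotientGroup.mk' Z z = 1 := (QuotientGroup.eq_one_iff z).2 hz
    rw [this, mul_one]
    rfl
  · intro hab
    apply C.not
    rw [AbP.iff]
    intro S hS a ha b hb
    have hSL : S ≤ L := pgroup_le hidx hS
    haveI : (Z.subgroupOf L).Normal := inferInstance
    exact AbP.iff.1 hab (S.subgroupOf L) (hS.comap_of_injective _ L.subtype_injective)
      ⟨a, hSL ha⟩ ha ⟨b, hSL hb⟩ hb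
  · intro M hM hZM
    haveI := map_normal C.cen hs M hM
    have h1 : Z < M.map L.subtype ⊔ Z := by
      refine lt_of_le_of_ne le_sup_right ?_
      intro h
      apply hZM.not_ge
      intro x hx
      have : (x : G) ∈ M.map L.subtype ⊔ Z := Subgroup.mem_sup_left ⟨x, hx, rfl⟩
      rw [← h] at this
      exact this
    have h2 := C.up _ inferInstance h1
    rw [AbP.iff] at h2 ⊢
    intro S hS a ha b hb
    refine mem_of_sup C.cen hZM.le ?_
    exact h2 (S.map L.subtype) (hS.map _) a ⟨a, ha, rfl⟩ b ⟨b, hb, rfl⟩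
  · intro M hM hZM hMt S hSM hS a ha b hb
    haveI := map_normal C.cen hs M hM
    refine C.low (M.map L.subtype ⊔ Z) inferInstance le_sup_right ?_ (S.map L.subtype) ?_
      (hS.map _) a ⟨a, ha, rfl⟩ b ⟨b, hb, rfl⟩
    · intro h
      apply hMt
      rw [eq_top_iff]
      intro x _
      refine mem_of_sup C.cen hZM ?_
      rw [h]
      exact Subgroup.mem_top _
    · exact (Subgroup.map_mono hSM).trans le_sup_left

end

/-- **We may assume that `Z` has no proper normal supplement.** -/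
theorem noMinX_of_perf {p : ℕ} [hp : Fact p.Prime]
    (h : ∀ {G : Type u} [Group G] [Finite G] (Z : Subgroup G) (l : Z →* ℂˣ), MinX p Z l →
      (∀ L : Subgroup G, L.Normal → L ⊔ Z = ⊤ → L = ⊤) → False) : NoMinX.{u} p := by
  have key : ∀ (n : ℕ) {G : Type u} [Group G] [Finite G] (Z : Subgroup G) (l : Z →* ℂˣ),
      Nat.card G = n → ¬ MinX p Z l := by
    intro n
    induction n using Nat.strong_induction_on with
    | _ n ih =>
      intro G _ _ Z l hn C
      refine h Z l C ?_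
      intro L hL hs
      by_contra hne
      refine ih (Nat.card L) ?_ (Z.subgroupOf L) (resL L l) rfl (minX_resL C hL hs)
      rw [← hn]
      have h1 : Nat.card L * L.index = Nat.card G := L.card_mul_index
      have h2 : L.index ≠ 1 := fun h => hne (Subgroup.index_eq_one.1 h)
      have h3 : L.index ≠ 0 := Subgroup.index_ne_zero_of_finite
      have h4 : 0 < Nat.card L := Nat.card_pos
      rw [← h1]
      have h5 : 2 ≤ L.index := by omega
      nlinarith
  intro G _ _ Z l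
  exact key _ Z l rfl

end Cfsg.Agent.H696.RIM
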