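import Cfsg.Agent.H696.RIM.Cen
import Cfsg.Agent.H229.RIM.MinDef
import Cfsg.Agent.H586.GW.AbPLem
import Cfsg.Agent.CharDeep.PowerDegrees

/-!
# S4816: the minimal counterexample (helper696)
-/

set_option autoImplicit false
set_option linter.style.haveILetI false
set_option linter.unusedSectionVars false
open Cfsg

namespace Cfsg.Agent.H696.RIM

open Cfsg.Agent.Characters.Core Cfsg.Agent.Characters.Clifford Cfsg.Agent.H672
open Cfsg.Agent.H672.RM (over_lin_iff)
open Cfsg.Agent.H586.GW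
open Cfsg.Agent.H229.RIM (Bad MinX NoMinX)
open scoped commutatorElement

universe u

section
variable {p : ℕ} [hp : Fact p.Prime] {G : Type u} [Group G] [Finite G] {Z : Subgroup G}
  {l : Z →* ℂˣ}

theorem exists_psi (l : Z →* ℂˣ) (M : Subgroup G) (hZM : Z ≤ M) :
    ∃ ψ : M → ℂ, IsIrrCharacter M ψ ∧ Over (Subgroup.inclusion hZM) ψ (lf l) := by
  obtain ⟨χ, hχ, h1⟩ := exists_over_subtype Z (isIrr_lf l)
  have e : M.subtype.comp (Subgroup.inclusion hZM) = Z.subtype := rfl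
  rw [← e] at h1
  obtain ⟨ψ, hψ, -, h2⟩ := (over_comp_iff _ _ (isIrr_isCharacter hχ) (isIrr_lf l)).1 h1
  exact ⟨ψ, hψ, h2⟩

theorem relP_iff_bad (hZ : Z ≤ Subgroup.center G) :
    RelP p Z.subtype (lf l) ↔ Bad p Z l := by
  constructor
  · intro h χ hχ hov hd
    refine h χ hχ ((over_lin_iff Z.subtype (fun z => hZ z.2) hχ l).2 hov) ?_
    rwa [charDegree_lf, mul_one]
  · intro h χ hχ hov hd
    rw [charDegree_lf, mul_one] at hd
    exact h χ hχ ((over_lin_iff Z.subtype (fun z => hZ z.2) hχ l).1 hov) hd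

theorem gl_up (hZ : Z ≤ Subgroup.center G) (hmin : ∀ k < Z.index, Gl.{u} p k)
    (hrel : RelP p Z.subtype (lf l)) (M : Subgroup G) (hM : M.Normal) (hZM : Z < M) : AbP p M := by
  haveI := center_normal Z hZ
  obtain ⟨ψ, hψ, h1⟩ := exists_psi l M hZM.le
  refine hmin M.index ?_ M ψ hψ rfl (hrel.up Z (isIrr_lf l) (charDegree_lf l) M hZM.le hψ h1)
  have h4 : Z.relIndex M * M.index = Z.index := Subgroup.relIndex_mul_index hZM.le
  have h5 : Z.relIndex M ≠ 1 := fun h => hZM.not_ge (Subgroup.relIndex_eq_one.1 h)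
  have h6 : M.index ≠ 0 := Subgroup.index_ne_zero_of_finite
  have h7 : Z.relIndex M ≠ 0 := Subgroup.index_ne_zero_of_finite
  rw [← h4]
  have h8 : 2 ≤ Z.relIndex M := by omega
  nlinarith [Nat.pos_of_ne_zero h6]

theorem gl_low (hZ : Z ≤ Subgroup.center G) (hmin : ∀ k < Z.index, Gl.{u} p k)
    (hrel : RelP p Z.subtype (lf l)) (M : Subgroup G)
    (hM : M.Normal) (hZM : Z ≤ M) (hMt : M ≠ ⊤) : AbP p (Z.subgroupOf M) := by
  haveI := center_normal Z hZ
  have h1 := hrel.normal Z (isIrr_lf l) M hZM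
  have h2 := relP_equiv _ (Subgroup.subgroupOfEquivOfLe hZM) h1
  refine hmin (Z.subgroupOf M).index ?_ (Z.subgroupOf M) _ ?_ rfl h2
  · have h4 : Z.relIndex M * M.index = Z.index := Subgroup.relIndex_mul_index hZM
    have h5 : M.index ≠ 1 := fun h => hMt (Subgroup.index_eq_one.1 h)
    have h6 : M.index ≠ 0 := Subgroup.index_ne_zero_of_finite
    have h7 : Z.relIndex M ≠ 0 := Subgroup.index_ne_zero_of_finite
    change Z.relIndex M < _
    rw [← h4]
    have h8 : 2 ≤ M.index := by omega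
    nlinarith [Nat.pos_of_ne_zero h7]
  · exact isIrr_comp (Subgroup.subgroupOfEquivOfLe hZM).toMonoidHom
      (Subgroup.subgroupOfEquivOfLe hZM).surjective (isIrr_lf l)

/-- The `p`-solvable case. -/
theorem psolv_abP (hps : ∀ n, Goal.{u} p n) (hZ : Z ≤ Subgroup.center G) (hG : IsPSolvable p G)
    (hrel : RelP p Z.subtype (lf l)) : AbP p Z := by
  haveI := center_normal Z hZ
  exact hps Z.index Z (lf l) (isIrr_lf l)
    (Cfsg.Agent.Lib.PSolvable.IsPSolvable_of_surjective p hG _ (QuotientGroup.mk'_surjective Z))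
    rfl hrel

end

/-- **The minimal counterexample** (`p` odd). -/
theorem cg_of_noMinX {p : ℕ} [hp : Fact p.Prime] (hp2 : p ≠ 2) (hps : ∀ n, Goal.{u} p n)
    (h : NoMinX.{u} p) {n : ℕ} (ih : ∀ k < n, Gl.{u} p k) : CG.{u} p n := by
  intro G _ _ Z hZ l hinj hpZ hn hrel
  by_contra hnot
  subst hn
  refine h Z l ⟨hp2, hZ, hinj, hpZ, (relP_iff_bad hZ).1 hrel,
    fun hG => hnot (psolv_abP hps hZ hG hrel), hnot,
    fun M hM hZM => gl_up hZ ih hrel M hM hZM, ?_⟩
  intro M hM hZM hMt S hSM hS a ha b hb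
  haveI := center_normal Z hZ
  haveI : (Z.subgroupOf M).Normal := inferInstance
  have h1 := AbP.iff.1 (gl_low hZ ih hrel M hM hZM hMt) (S.subgroupOf M)
    (hS.comap_of_injective _ M.subtype_injective) ⟨a, hSM ha⟩ ha ⟨b, hSM hb⟩ hb
  exact h1

/-- S4986 for linear characters of central subgroups. -/
def OddCen : Prop :=
  ∀ {G : Type u} [Group G] [Finite G] (N : Subgroup G) [N.Normal] (φ : Cfsg.IrrCharacter ↥N),
    (∀ (g : G) (n m : ↥N), (m : G) = g * n * g⁻¹ → (φ : ↥N → ℂ) m = (φ : ↥N → ℂ) n) →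
    (∀ χ : Cfsg.IrrCharacter G,
      (∑ᶠ n : ↥N, (χ : G → ℂ) n * (starRingEnd ℂ) ((φ : ↥N → ℂ) n)) ≠ 0 →
      Odd (Cfsg.charDegree (χ : G → ℂ) / Cfsg.charDegree (φ : ↥N → ℂ))) →
    Group.IsSolvable (G ⧸ N)

/-- The case `p = 2`. -/
theorem cg_two (h86 : OddCen.{u}) (hps : ∀ n, Goal.{u} 2 n) (n : ℕ) : CG.{u} 2 n := by
  intro G _ _ Z hZ l hinj hpZ hn hrel
  haveI := center_normal Z hZ
  haveI : Fact (Nat.Prime 2) := ⟨Nat.prime_two⟩
  refine psolv_abP hps hZ ?_ hrel
  have h1 : Group.IsSolvable (G ⧸ Z) := by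
    refine h86 Z ⟨lf l, isIrr_lf l⟩ ?_ ?_
    · intro g n m hmn
      have h2 : (m : G) = n := by
        rw [hmn, (Subgroup.mem_center_iff.1 (hZ n.2) g), mul_inv_cancel_right]
      rw [Subtype.ext h2]
    · intro χ hχ
      have h2 : Over Z.subtype (χ : G → ℂ) (lf l) := by
        classical
        letI := Fintype.ofFinite Z
        rw [over_iff, classInner_def]
        refine mul_ne_zero (inv_ne_zero ?_) ?_
        · exact_mod_cast Nat.card_pos.ne'
        · rw [finsum_eq_sum_of_fintype] at hχ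
          exact hχ
      have h3 := hrel χ χ.2 h2
      rw [charDegree_lf, mul_one] at h3
      have h4 : charDegree ((⟨lf l, isIrr_lf l⟩ : IrrCharacter Z) : Z → ℂ) = 1 := charDegree_lf l
      rw [h4, Nat.div_one, ← Nat.not_even_iff_odd, even_iff_two_dvd]
      exact h3
  haveI : Group.IsSolvable G := by
    have h2 : Group.IsSolvable Z := Group.isSolvable_of_comm (fun a b => Subtype.ext
      (Subgroup.mem_center_iff.1 (hZ b.2) (a : G)))
    exact Group.isSolvable_of_ker_le_range Z.subtype (QuotientGroup.mk' Z) (by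
      rw [QuotientGroup.ker_mk', Subgroup.range_subtype])
  exact Cfsg.Agent.Lib.PSolvable.IsPSolvable_of_solvable 2

/-- **S4816 from the non-existence of the minimal counterexample.** -/
theorem main_of_noMinX (h86 : OddCen.{u}) {p : ℕ} [hp : Fact p.Prime] (hps : ∀ n, Goal.{u} p n)
    (h : p ≠ 2 → NoMinX.{u} p)
    {G : Type u} [Group G] [Fintype G] (N : Subgroup G) [N.Normal] [Fintype N] (θ : Cfsg.IrrCharacter N)
    (hdeg : ∀ χ : Cfsg.IrrCharacter G, Cfsg.classInner (fun n : N => (χ : G → ℂ) n) (θ : N → ℂ) ≠ 0 →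
      (Cfsg.charDegree (χ : G → ℂ)).factorization p = (Cfsg.charDegree (θ : N → ℂ)).factorization p)
    (Q : Sylow p (G ⧸ N)) : IsMulCommutative (Q : Subgroup (G ⧸ N)) := by
  refine main_of ?_ N θ hdeg Q
  intro n ih
  by_cases hp2 : p = 2
  · subst hp2
    exact cg_two h86 hps n
  · exact cg_of_noMinX hp2 hps (h hp2) ih

end Cfsg.Agent.H696.RIM
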